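import Groth.Agent.TMul.Frame
import Groth.Agent.Pinch.Basic
import Groth.Agent.QC.PullSect

/-!
Morphisms of finite locally free modules on a pinching square are pairs of compatible morphisms.
-/

set_option autoImplicit false
set_option backward.isDefEq.respectTransparency false
set_option backward.isDefEq.respectTransparency.types false
set_option linter.style.haveILetI false
set_option maxHeartbeats 1000000
set_option synthInstance.maxHeartbeats 400000

universe u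

open CategoryTheory CategoryTheory.Limits AlgebraicGeometry TopologicalSpace Opposite
open Groth.Agent.QC (res resO res_res res_smul resO_resO app_res)

noncomputable section

namespace Groth.Agent.PinchHom

/-- Pulling back sections. -/
abbrev pl {A B : Scheme.{u}} (f : A ⟶ B) (M : B.Modules) (W : B.Opens) (m : Γ(M, W)) :
    Γ((Scheme.Modules.pullback f).obj M, f ⁻¹ᵁ W) :=
  OmegaSh.pullSect f M W m

theorem pl_res {A B : Scheme.{u}} (f : A ⟶ B) (M : B.Modules) {V U : B.Opens} (h : V ≤ U) (m : Γ(M, U)) :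
    pl f M V (res M h m) = res _ (f.preimage_mono h) (pl f M U m) := OmegaSh.pullSect_map f M h m

theorem pl_comb {A B : Scheme.{u}} (f : A ⟶ B) (M : B.Modules) {n : ℕ} {U₀ V : B.Opens}
    (e : Fin n → Γ(M, U₀)) (hV : V ≤ U₀) (c : Fin n → Γ(B, V)) :
    pl f M V (∑ l, c l • res M hV (e l)) =
      ∑ l, (f.app V).hom (c l) • res _ (f.preimage_mono hV) (pl f M U₀ (e l)) := by
  refine (map_sum _ _ _).trans (Finset.sum_congr rfl fun l _ => ?_)
  refine (OmegaSh.pullSect_smul f M V (c l) _).trans ?_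
  exact congrArg (_ • ·) (pl_res f M hV (e l))

theorem pl_add {A B : Scheme.{u}} (f : A ⟶ B) (M : B.Modules) (V : B.Opens) (s t : Γ(M, V)) :
    pl f M V (s + t) = pl f M V s + pl f M V t := map_add _ _ _

theorem map_comb {A : Scheme.{u}} {P Q : A.Modules} (φ : P ⟶ Q) {n : ℕ} {U₀ V : A.Opens}
    (e : Fin n → Γ(P, U₀)) (hV : V ≤ U₀) (c : Fin n → Γ(A, V)) :
    φ.app V (∑ l, c l • res P hV (e l)) = ∑ l, c l • res Q hV (φ.app U₀ (e l)) := by
  refine (map_sum _ _ _).trans (Finset.sum_congr rfl fun l _ => ?_)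
  refine (Scheme.Modules.Hom.app_smul _ (c l) _).trans ?_
  exact congrArg (c l • ·) (app_res φ hV (e l)).symm

variable {Z X Y T : Scheme.{u}} (fX : Z ⟶ X) (fY : Z ⟶ Y) (gX : X ⟶ T) (gY : Y ⟶ T)

theorem le_pre (hw : fX ≫ gX = fY ≫ gY) (V : T.Opens) : fX ⁻¹ᵁ (gX ⁻¹ᵁ V) ≤ fY ⁻¹ᵁ (gY ⁻¹ᵁ V) :=
  (Pinch.preimage_eq hw V).le

variable {fX fY gX gY}

/-- The comparison on the first branch. -/
def uX (hw : fX ≫ gX = fY ≫ gY) (N : T.Modules) :
    (Scheme.Modules.pullback fX).obj ((Scheme.Modules.pullback gX).obj N) ⟶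
      (Scheme.Modules.pullback (fY ≫ gY)).obj N :=
  (Scheme.Modules.pullbackComp fX gX).hom.app N ≫ (Scheme.Modules.pullbackCongr hw).hom.app N

/-- The comparison on the second branch. -/
def uY (fY : Z ⟶ Y) (gY : Y ⟶ T) (N : T.Modules) :
    (Scheme.Modules.pullback fY).obj ((Scheme.Modules.pullback gY).obj N) ⟶
      (Scheme.Modules.pullback (fY ≫ gY)).obj N :=
  (Scheme.Modules.pullbackComp fY gY).hom.app N

variable (fX fY gX gY) in
/-- Compatibility of sections of the two inverse images. -/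
def Cond (hw : fX ≫ gX = fY ≫ gY) (N : T.Modules) (V : T.Opens)
    (sX : Γ((Scheme.Modules.pullback gX).obj N, gX ⁻¹ᵁ V))
    (sY : Γ((Scheme.Modules.pullback gY).obj N, gY ⁻¹ᵁ V)) : Prop :=
  (uX hw N).app (fX ⁻¹ᵁ (gX ⁻¹ᵁ V)) (pl fX _ (gX ⁻¹ᵁ V) sX) =
    res ((Scheme.Modules.pullback (fY ≫ gY)).obj N) (le_pre fX fY gX gY hw V)
      ((uY fY gY N).app (fY ⁻¹ᵁ (gY ⁻¹ᵁ V)) (pl fY _ (gY ⁻¹ᵁ V) sY))

theorem uX_pl (hw : fX ≫ gX = fY ≫ gY) (N : T.Modules) (V : T.Opens) (m : Γ(N, V)) :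
    (uX hw N).app (fX ⁻¹ᵁ (gX ⁻¹ᵁ V)) (pl fX _ (gX ⁻¹ᵁ V) (pl gX N V m)) =
      res ((Scheme.Modules.pullback (fY ≫ gY)).obj N) (le_pre fX fY gX gY hw V) (pl (fY ≫ gY) N V m) := by
  show ((Scheme.Modules.pullbackCongr hw).hom.app N).app (fX ⁻¹ᵁ (gX ⁻¹ᵁ V))
      (((Scheme.Modules.pullbackComp fX gX).hom.app N).app (fX ⁻¹ᵁ (gX ⁻¹ᵁ V))
        (pl fX _ (gX ⁻¹ᵁ V) (pl gX N V m))) = _
  rw [show ((Scheme.Modules.pullbackComp fX gX).hom.app N).app (fX ⁻¹ᵁ (gX ⁻¹ᵁ V))
      (pl fX _ (gX ⁻¹ᵁ V) (pl gX N V m)) = pl (fX ≫ gX) N V m from QC.pullbackComp_hom_pullSect fX gX N V m]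
  exact (QC.pullbackCongr_hom_pullSect hw N V m).trans rfl

theorem uY_pl (N : T.Modules) (V : T.Opens) (m : Γ(N, V)) :
    (uY fY gY N).app (fY ⁻¹ᵁ (gY ⁻¹ᵁ V)) (pl fY _ (gY ⁻¹ᵁ V) (pl gY N V m)) = pl (fY ≫ gY) N V m :=
  QC.pullbackComp_hom_pullSect fY gY N V m

theorem cond_pl (hw : fX ≫ gX = fY ≫ gY) (N : T.Modules) (V : T.Opens) (m : Γ(N, V)) :
    Cond fX fY gX gY hw N V (pl gX N V m) (pl gY N V m) := by
  refine (uX_pl hw N V m).trans ?_
  rw [uY_pl]

theorem cond_res (hw : fX ≫ gX = fY ≫ gY) (N : T.Modules) {V W : T.Opens} (h : W ≤ V)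
    {sX : Γ((Scheme.Modules.pullback gX).obj N, gX ⁻¹ᵁ V)} {sY : Γ((Scheme.Modules.pullback gY).obj N, gY ⁻¹ᵁ V)}
    (hc : Cond fX fY gX gY hw N V sX sY) :
    Cond fX fY gX gY hw N W (res _ (gX.preimage_mono h) sX) (res _ (gY.preimage_mono h) sY) := by
  unfold Cond at hc ⊢
  rw [pl_res, pl_res, ← app_res, ← app_res, hc, res_res, res_res]

section Frame

variable {n : ℕ} {N : T.Modules} {U₀ : T.Opens} {e : Fin n → Γ(N, U₀)}

theorem eq_of_frame (h : Pinch.IsPinch fX fY gX gY) (he : TMul.IsFrame e) {V : T.Opens} (hV : V ≤ U₀)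
    {m m' : Γ(N, V)} (hX : pl gX N V m = pl gX N V m') (hY : pl gY N V m = pl gY N V m') : m = m' := by
  obtain ⟨c, rfl⟩ := he.comb_surjective hV m
  obtain ⟨c', rfl⟩ := he.comb_surjective hV m'
  rw [pl_comb, pl_comb] at hX hY
  have h1 := (he.pullback gX).comb_injective (gX.preimage_mono hV) hX
  have h2 := (he.pullback gY).comb_injective (gY.preimage_mono hV) hY
  have : c = c' := funext fun l => (Pinch.secAt_of_isPinch h V).1 _ _ (congrFun h1 l) (congrFun h2 l)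
  rw [this]

theorem exists_of_frame (h : Pinch.IsPinch fX fY gX gY) (he : TMul.IsFrame e) {V : T.Opens} (hV : V ≤ U₀)
    {sX : Γ((Scheme.Modules.pullback gX).obj N, gX ⁻¹ᵁ V)} {sY : Γ((Scheme.Modules.pullback gY).obj N, gY ⁻¹ᵁ V)}
    (hc : Cond fX fY gX gY (Pinch.w_of_isPinch h) N V sX sY) :
    ∃ m : Γ(N, V), pl gX N V m = sX ∧ pl gY N V m = sY := by
  let hw := Pinch.w_of_isPinch h
  obtain ⟨cX, hcX⟩ := (he.pullback gX).comb_surjective (gX.preimage_mono hV) sX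
  obtain ⟨cY, hcY⟩ := (he.pullback gY).comb_surjective (gY.preimage_mono hV) sY
  subst hcX hcY
  unfold Cond at hc
  have hle : fX ⁻¹ᵁ (gX ⁻¹ᵁ V) ≤ (fY ≫ gY) ⁻¹ᵁ U₀ :=
    (le_pre fX fY gX gY hw V).trans ((fY ≫ gY).preimage_mono hV)
  have hL : (uX hw N).app (fX ⁻¹ᵁ (gX ⁻¹ᵁ V))
        (pl fX _ (gX ⁻¹ᵁ V) (∑ l, cX l • res _ (gX.preimage_mono hV) (pl gX N U₀ (e l)))) =
      ∑ l, (fX.app _).hom (cX l) • res _ hle (pl (fY ≫ gY) N U₀ (e l)) := by
    rw [pl_comb, map_comb]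
    refine Finset.sum_congr rfl fun l _ => congrArg (_ • ·) ?_
    rw [uX_pl hw N U₀ (e l), res_res]
    rfl
  have hR : res ((Scheme.Modules.pullback (fY ≫ gY)).obj N) (le_pre fX fY gX gY hw V)
      ((uY fY gY N).app (fY ⁻¹ᵁ (gY ⁻¹ᵁ V))
        (pl fY _ (gY ⁻¹ᵁ V) (∑ l, cY l • res _ (gY.preimage_mono hV) (pl gY N U₀ (e l))))) =
      ∑ l, resO Z (le_pre fX fY gX gY hw V) ((fY.app _).hom (cY l)) •
        res _ hle (pl (fY ≫ gY) N U₀ (e l)) := by
    rw [pl_comb, map_comb, map_sum]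
    refine Finset.sum_congr rfl fun l _ => ?_
    rw [res_smul, uY_pl, res_res]
    rfl
  have hco := (he.pullback (fY ≫ gY)).comb_injective hle (hL.symm.trans (hc.trans hR))
  have hr : ∀ l, ∃ r : Γ(T, V), (gX.app V).hom r = cX l ∧ (gY.app V).hom r = cY l := fun l =>
    (Pinch.secAt_of_isPinch h V).2 _ _ (congrFun hco l)
  choose r hrX hrY using hr
  refine ⟨∑ l, r l • res N hV (e l), ?_, ?_⟩
  · rw [pl_comb]; simp only [hrX]; rfl
  · rw [pl_comb]; simp only [hrY]; rfl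

end Frame

variable {N : T.Modules}

theorem sect_ext (h : Pinch.IsPinch fX fY gX gY) (hN : FlatMod.IsFinLocFree N) {V : T.Opens} {m m' : Γ(N, V)}
    (hX : pl gX N V m = pl gX N V m') (hY : pl gY N V m = pl gY N V m') : m = m' := by
  refine QC.section_eq_of_locally fun x hx => ?_
  obtain ⟨U, n, e, hxU, he⟩ := TMul.exists_isFrame hN x
  refine ⟨V ⊓ U, inf_le_left, ⟨hx, hxU⟩, eq_of_frame h he inf_le_right ?_ ?_⟩
  · rw [pl_res, pl_res, hX]
  · rw [pl_res, pl_res, hY]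

theorem exists_sect (h : Pinch.IsPinch fX fY gX gY) (hN : FlatMod.IsFinLocFree N) {V : T.Opens}
    {sX : Γ((Scheme.Modules.pullback gX).obj N, gX ⁻¹ᵁ V)} {sY : Γ((Scheme.Modules.pullback gY).obj N, gY ⁻¹ᵁ V)}
    (hc : Cond fX fY gX gY (Pinch.w_of_isPinch h) N V sX sY) :
    ∃ m : Γ(N, V), pl gX N V m = sX ∧ pl gY N V m = sY := by
  choose U n e hxU he using fun x : V => TMul.exists_isFrame hN (x : T)
  let W : V → T.Opens := fun x => V ⊓ U x
  choose m hmX hmY using fun x : V => exists_of_frame h (he x) (V := W x) inf_le_right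
    (cond_res _ N (inf_le_left : W x ≤ V) hc)
  obtain ⟨g, hg, -⟩ := TopCat.Sheaf.existsUnique_gluing' (QC.abSheaf N) W V
    (fun x => homOfLE inf_le_left) (fun x hx => Opens.mem_iSup.mpr ⟨⟨x, hx⟩, hx, hxU _⟩) m
    (fun x y => by
      refine sect_ext h hN ?_ ?_
      · show pl gX N _ (res N inf_le_left (m x)) = pl gX N _ (res N inf_le_right (m y))
        rw [pl_res, pl_res, hmX, hmX, res_res, res_res]
      · show pl gY N _ (res N inf_le_left (m x)) = pl gY N _ (res N inf_le_right (m y))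
        rw [pl_res, pl_res, hmY, hmY, res_res, res_res])
  refine ⟨g, ?_, ?_⟩
  · refine QC.section_eq_of_locally fun x hx => ?_
    refine ⟨gX ⁻¹ᵁ W ⟨gX x, hx⟩, gX.preimage_mono (show W ⟨gX x, hx⟩ ≤ V from inf_le_left),
      ⟨hx, hxU _⟩, ?_⟩
    rw [← pl_res gX N (show W ⟨gX x, hx⟩ ≤ V from inf_le_left), ← hmX]
    exact congrArg (pl gX N _) (hg _)
  · refine QC.section_eq_of_locally fun x hx => ?_
    refine ⟨gY ⁻¹ᵁ W ⟨gY x, hx⟩, gY.preimage_mono (show W ⟨gY x, hx⟩ ≤ V from inf_le_left),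
      ⟨hx, hxU _⟩, ?_⟩
    rw [← pl_res gY N (show W ⟨gY x, hx⟩ ≤ V from inf_le_left), ← hmY]
    exact congrArg (pl gY N _) (hg _)

theorem hom_ext {A B : Scheme.{u}} (f : A ⟶ B) {M : B.Modules} {P : A.Modules}
    {a a' : (Scheme.Modules.pullback f).obj M ⟶ P}
    (h : ∀ (V : B.Opens) (s : Γ(M, V)), a.app (f ⁻¹ᵁ V) (pl f M V s) = a'.app (f ⁻¹ᵁ V) (pl f M V s)) :
    a = a' := by
  apply ((Scheme.Modules.pullbackPushforwardAdjunction f).homEquiv M P).injective
  rw [Adjunction.homEquiv_unit, Adjunction.homEquiv_unit]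
  refine Scheme.Modules.hom_ext _ _ fun V => ?_
  ext s
  exact h V s

theorem faithful (h : Pinch.IsPinch fX fY gX gY) (hN : FlatMod.IsFinLocFree N) {M : T.Modules} (φ ψ : M ⟶ N)
    (hX : (Scheme.Modules.pullback gX).map φ = (Scheme.Modules.pullback gX).map ψ)
    (hY : (Scheme.Modules.pullback gY).map φ = (Scheme.Modules.pullback gY).map ψ) : φ = ψ := by
  refine Scheme.Modules.hom_ext _ _ fun V => ?_
  ext s
  refine sect_ext h hN ?_ ?_
  · rw [show pl gX N V (φ.app V s) = _ from (QC.app_pullSect gX φ V s).symm, hX]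
    exact QC.app_pullSect gX ψ V s
  · rw [show pl gY N V (φ.app V s) = _ from (QC.app_pullSect gY φ V s).symm, hY]
    exact QC.app_pullSect gY ψ V s

theorem full (h : Pinch.IsPinch fX fY gX gY) (hN : FlatMod.IsFinLocFree N) {M : T.Modules}
    (a : (Scheme.Modules.pullback gX).obj M ⟶ (Scheme.Modules.pullback gX).obj N)
    (b : (Scheme.Modules.pullback gY).obj M ⟶ (Scheme.Modules.pullback gY).obj N)
    (hab : (Scheme.Modules.pullback fX).map a ≫ ((Scheme.Modules.pullbackComp fX gX).app N ≪≫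
        (Scheme.Modules.pullbackCongr (Pinch.w_of_isPinch h)).app N ≪≫
          ((Scheme.Modules.pullbackComp fY gY).app N).symm).hom =
      ((Scheme.Modules.pullbackComp fX gX).app M ≪≫
        (Scheme.Modules.pullbackCongr (Pinch.w_of_isPinch h)).app M ≪≫
          ((Scheme.Modules.pullbackComp fY gY).app M).symm).hom ≫ (Scheme.Modules.pullback fY).map b) :
    ∃ φ : M ⟶ N, (Scheme.Modules.pullback gX).map φ = a ∧ (Scheme.Modules.pullback gY).map φ = b := by
  let hw := Pinch.w_of_isPinch h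
  have hc : ∀ (V : T.Opens) (s : Γ(M, V)),
      Cond fX fY gX gY hw N V (a.app _ (pl gX M V s)) (b.app _ (pl gY M V s)) := by
    intro V s
    let O := fX ⁻¹ᵁ (gX ⁻¹ᵁ V)
    have hM := cond_pl hw M V s
    unfold Cond at hM ⊢
    have hab' : (Scheme.Modules.pullback fX).map a ≫ uX hw N =
        uX hw M ≫ (Scheme.Modules.pullbackComp fY gY).inv.app M ≫ (Scheme.Modules.pullback fY).map b ≫
          uY fY gY N := by
      have h' := congrArg (· ≫ uY fY gY N) hab
      simp only [Iso.trans_hom, Iso.app_hom, Iso.symm_hom, Iso.app_inv, Category.assoc] at h'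
      simp only [uX, uY, Category.assoc] at h' ⊢
      rw [Iso.inv_hom_id_app, Category.comp_id] at h'
      exact h'
    have h1 : (uX hw N).app O (((Scheme.Modules.pullback fX).map a).app O
          (pl fX _ (gX ⁻¹ᵁ V) (pl gX M V s))) =
        (uY fY gY N).app O (((Scheme.Modules.pullback fY).map b).app O
          (((Scheme.Modules.pullbackComp fY gY).inv.app M).app O
            ((uX hw M).app O (pl fX _ (gX ⁻¹ᵁ V) (pl gX M V s))))) :=
      congr(($hab').app O (pl fX _ (gX ⁻¹ᵁ V) (pl gX M V s)))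
    rw [show ((Scheme.Modules.pullback fX).map a).app O (pl fX _ (gX ⁻¹ᵁ V) (pl gX M V s)) =
      pl fX _ (gX ⁻¹ᵁ V) (a.app _ (pl gX M V s)) from QC.app_pullSect fX a _ _, hM] at h1
    refine h1.trans ?_
    rw [show pl fY _ (gY ⁻¹ᵁ V) (b.app _ (pl gY M V s)) =
      ((Scheme.Modules.pullback fY).map b).app (fY ⁻¹ᵁ (gY ⁻¹ᵁ V)) (pl fY _ (gY ⁻¹ᵁ V) (pl gY M V s)) from
        (QC.app_pullSect fY b _ _).symm]
    conv_rhs => rw [app_res, app_res]
    refine congrArg ((uY fY gY N).app O) (congrArg (((Scheme.Modules.pullback fY).map b).app O) ?_)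
    refine (app_res ((Scheme.Modules.pullbackComp fY gY).inv.app M) _ _).symm.trans ?_
    refine congrArg (res _ (le_pre fX fY gX gY hw V)) ?_
    exact congr(($((Scheme.Modules.pullbackComp fY gY).hom_inv_id_app M)).app (fY ⁻¹ᵁ (gY ⁻¹ᵁ V)) _)
  choose φ hφX hφY using fun (V : T.Opens) (s : Γ(M, V)) => exists_sect h hN (hc V s)
  have hadd : ∀ (V : T.Opens) (s t : Γ(M, V)), φ V (s + t) = φ V s + φ V t := fun V s t => by
    refine sect_ext h hN ?_ ?_
    · rw [hφX, pl_add, pl_add, map_add, hφX, hφX]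
    · rw [hφY, pl_add, pl_add, map_add, hφY, hφY]
  have hsmul : ∀ (V : T.Opens) (r : Γ(T, V)) (s : Γ(M, V)), φ V (r • s) = r • φ V s := fun V r s => by
    refine sect_ext h hN ?_ ?_
    · rw [hφX, show pl gX M V (r • s) = _ from OmegaSh.pullSect_smul gX M V r s,
        Scheme.Modules.Hom.app_smul, ← hφX]
      exact (OmegaSh.pullSect_smul gX N V r _).symm
    · rw [hφY, show pl gY M V (r • s) = _ from OmegaSh.pullSect_smul gY M V r s,
        Scheme.Modules.Hom.app_smul, ← hφY]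
      exact (OmegaSh.pullSect_smul gY N V r _).symm
  have hres : ∀ {V W : T.Opens} (hWV : W ≤ V) (s : Γ(M, V)), φ W (res M hWV s) = res N hWV (φ V s) :=
    fun hWV s => by
    refine sect_ext h hN ?_ ?_
    · rw [hφX, pl_res, pl_res, hφX, app_res]
    · rw [hφY, pl_res, pl_res, hφY, app_res]
  let Φ : M ⟶ N := ⟨PresheafOfModules.homMk
    { app := fun V => AddCommGrpCat.ofHom (AddMonoidHom.mk' (φ V.unop) (hadd _))
      naturality := fun V W i => by
        ext s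
        exact hres i.unop.le s }
    (fun V r s => hsmul V.unop r s)⟩
  exact ⟨Φ, hom_ext gX fun V s => (QC.app_pullSect gX Φ V s).trans (hφX V s),
    hom_ext gY fun V s => (QC.app_pullSect gY Φ V s).trans (hφY V s)⟩

end Groth.Agent.PinchHom
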