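import Groth.Agent.W7Strat.Frame
import Groth.Agent.PinchHom.Main
import Groth.Agent.AmpleHomeo.Basic
import Groth.Agent.AVOmega.Push
import Groth.Agent.ModDesc.LocFreeDesc

/-!
Sections forming a frame on a closed subscheme form a frame nearby.
-/

set_option autoImplicit false
set_option backward.isDefEq.respectTransparency false
set_option backward.isDefEq.respectTransparency.types false
set_option linter.style.haveILetI false
set_option maxHeartbeats 1000000
set_option synthInstance.maxHeartbeats 400000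

universe u

open CategoryTheory CategoryTheory.Limits AlgebraicGeometry TopologicalSpace Opposite
open Groth.Agent.QC (res resO res_res res_smul resO_resO app_res)
open TMul (IsFrame)

noncomputable section

namespace Groth.Agent.PinchHom

variable {X : Scheme.{u}} {M N : X.Modules} {n : ℕ}

/-- Isomorphisms carry frames to frames. -/
theorem isFrame_app (φ : M ≅ N) {U : X.Opens} {e : Fin n → Γ(M, U)} (he : IsFrame e) :
    IsFrame fun l => φ.hom.app U (e l) := by
  refine W7Strat.isFrame_of_bijective fun V hV => ?_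
  have h : (fun c : Fin n → Γ(X, V) => ∑ l, c l • res N hV (φ.hom.app U (e l))) =
      (φ.hom.app V) ∘ fun c => ∑ l, c l • res M hV (e l) := funext fun c => (map_comb φ.hom e hV c).symm
  rw [h]
  haveI : IsIso (φ.hom.app V) := inferInstance
  exact (ConcreteCategory.bijective_of_isIso (φ.hom.app V)).comp ⟨he.comb_injective hV, he.comb_surjective hV⟩

theorem exists_frame_rank (hM : FlatMod.IsFinLocFreeOfRank n M) (x : X) :
    ∃ (U : X.Opens) (e : Fin n → Γ(M, U)), x ∈ U ∧ IsFrame e := by
  obtain ⟨W, m, b, hxW, hb⟩ := TMul.exists_isFrame (E := M)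
    (fun x => let ⟨U, hx, e⟩ := hM x; ⟨U, n, hx, e⟩) x
  obtain rfl : m = n := by
    obtain ⟨e₁⟩ := W7Strat.nonempty_iso_free W.ι W.opensRange_ι.le hb
    obtain ⟨U, hx, ⟨e₂⟩⟩ := hM x
    exact ModDesc.rank_unique e₁ e₂ hxW hx
  exact ⟨W, b, hxW, hb⟩

/-- Sections whose inverse images along a morphism form a frame at `z` form a frame near the image. -/
theorem exists_frame_near {Z : Scheme.{u}} (ι : Z ⟶ X) (hM : FlatMod.IsFinLocFreeOfRank n M) {V : X.Opens}
    (e : Fin n → Γ(M, V)) (he : IsFrame fun l => pl ι M V (e l)) (z : Z) (hz : ι z ∈ V) :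
    ∃ (D : X.Opens) (hD : D ≤ V), ι z ∈ D ∧ IsFrame fun l => res M hD (e l) := by
  classical
  obtain ⟨Ug, g, hzg, hg⟩ := exists_frame_rank hM (ι z)
  let W := V ⊓ Ug
  have hWV : W ≤ V := inf_le_left
  have hWg : W ≤ Ug := inf_le_right
  choose A hA using fun l => hg.comb_surjective hWg (res M hWV (e l))
  have hzW : ι z ∈ W := ⟨hz, hzg⟩
  -- the transition matrix is invertible on the subscheme
  let W' : Z.Opens := ι ⁻¹ᵁ W
  choose B hB using fun m => he.comb_surjective (ι.preimage_mono hWV) (res _ (ι.preimage_mono hWg) (pl ι M Ug (g m)))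
  have hle : ∀ l, res _ (ι.preimage_mono hWV) (pl ι M V (e l)) =
      ∑ m, (ι.app W).hom (A l m) • res _ (ι.preimage_mono hWg) (pl ι M Ug (g m)) := fun l => by
    rw [← pl_res ι M hWV, ← hA, pl_comb]
  let Aι : Matrix (Fin n) (Fin n) Γ(Z, ι ⁻¹ᵁ W) := fun l m => (ι.app W).hom (A l m)
  have hAB : Aι * Matrix.of B = 1 := by
    refine Matrix.ext fun l m => ?_
    have h := hle l
    simp only [← hB, Finset.smul_sum, smul_smul] at h
    rw [Finset.sum_comm] at h
    simp only [← Finset.sum_smul] at h
    have h' : (∑ p, (if l = p then (1 : Γ(Z, ι ⁻¹ᵁ W)) else 0) • res _ (ι.preimage_mono hWV) (pl ι M V (e p))) =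
        res _ (ι.preimage_mono hWV) (pl ι M V (e l)) := by simp
    have h2 := congrFun (he.comb_injective (ι.preimage_mono hWV) (h'.trans h)) m
    rw [Matrix.mul_apply, Matrix.one_apply]
    exact h2.symm
  have hu : IsUnit ((ι.app W).hom (Matrix.det (Matrix.of A))) := by
    have h1 : (ι.app W).hom (Matrix.det (Matrix.of A)) = Matrix.det Aι := by
      rw [RingHom.map_det]; rfl
    rw [h1]
    exact Matrix.isUnit_det_of_right_inverse hAB
  have hux : IsUnit ((X.presheaf.germ W (ι z) hzW).hom (Matrix.det (Matrix.of A))) := by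
    refine (isUnit_map_iff (ι.stalkMap z).hom _).1 ?_
    rw [show (ι.stalkMap z).hom ((X.presheaf.germ W (ι z) hzW).hom (Matrix.det (Matrix.of A))) = _ from
      Scheme.Hom.germ_stalkMap_apply ι W z hzW _]
    exact hu.map _
  let D := X.basicOpen (Matrix.det (Matrix.of A))
  refine ⟨D, (X.basicOpen_le _).trans hWV, (X.mem_basicOpen _ _ hzW).2 hux,
    W7Strat.isFrame_of_bijective fun O hO => ?_⟩
  have hOW : O ≤ W := hO.trans (X.basicOpen_le _)
  let AO : Matrix (Fin n) (Fin n) Γ(X, O) := fun l m => resO X hOW (A l m)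
  have hdet : IsUnit AO.det := by
    have h1 : AO.det = resO X hO (resO X (X.basicOpen_le _) (Matrix.det (Matrix.of A))) := by
      rw [resO_resO, RingHom.map_det]; rfl
    rw [h1]
    exact (RingedSpace.isUnit_res_basicOpen _ _).map _
  have hcomb : (fun c : Fin n → Γ(X, O) =>
      ∑ l, c l • res M hO (res M ((X.basicOpen_le _).trans hWV) (e l))) =
      (fun c => ∑ m, c m • res M (hOW.trans hWg) (g m)) ∘ fun c => Matrix.vecMul c AO := by
    funext c
    have hl : ∀ l, res M hO (res M ((X.basicOpen_le _).trans hWV) (e l)) =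
        ∑ m, AO l m • res M (hOW.trans hWg) (g m) := fun l => by
      rw [res_res, show res M (hO.trans ((X.basicOpen_le _).trans hWV)) (e l) = res M hOW (res M hWV (e l)) from
        (res_res M _ _ _).symm, ← hA, map_sum]
      exact Finset.sum_congr rfl fun m _ => by rw [res_smul, res_res]
    simp only [Function.comp_apply, hl, Finset.smul_sum, smul_smul]
    rw [Finset.sum_comm]
    simp only [← Finset.sum_smul]
    rfl
  rw [hcomb]
  have hAu : IsUnit AO := (Matrix.isUnit_iff_isUnit_det AO).2 hdet
  exact Function.Bijective.comp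
    (g := fun c : Fin n → Γ(X, O) => ∑ m, c m • res M (hOW.trans hWg) (g m))
    (f := fun c : Fin n → Γ(X, O) => Matrix.vecMul c AO)
    ⟨hg.comb_injective (hOW.trans hWg), hg.comb_surjective (hOW.trans hWg)⟩
    ⟨Matrix.vecMul_injective_of_isUnit hAu, Matrix.vecMul_surjective_iff_isUnit.2 hAu⟩

end Groth.Agent.PinchHom
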