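import Groth.Agent.PinchHom.FrameAt

/-!
Glueing finite locally free modules along a pinching square.
-/

set_option autoImplicit false
set_option backward.isDefEq.respectTransparency false
set_option backward.isDefEq.respectTransparency.types false
set_option linter.style.haveILetI false
set_option maxHeartbeats 1000000
set_option synthInstance.maxHeartbeats 400000

universe u

open CategoryTheory CategoryTheory.Limits AlgebraicGeometry TopologicalSpace Opposite
open Groth.Agent.QC (res resO res_res res_smul resO_resO app_res)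
open TMul (IsFrame)

noncomputable section

namespace Groth.Agent.PinchHom

variable {Z X Y T : Scheme.{u}} {fX : Z ⟶ X} {fY : Z ⟶ Y} {gX : X ⟶ T} {gY : Y ⟶ T}
  (w : fX ≫ gX = fY ≫ gY) {L : X.Modules} {K : Y.Modules}
  (σ : (Scheme.Modules.pullback fX).obj L ≅ (Scheme.Modules.pullback fY).obj K)

/-- The first map of the glueing datum. -/
def g1 : (Scheme.Modules.pushforward gX).obj L ⟶
    (Scheme.Modules.pushforward (fX ≫ gX)).obj ((Scheme.Modules.pullback fY).obj K) :=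
  (Scheme.Modules.pushforward gX).map
      ((Scheme.Modules.pullbackPushforwardAdjunction fX).homEquiv L _ σ.hom) ≫
    (Scheme.Modules.pushforwardComp fX gX).hom.app _

/-- The second map of the glueing datum. -/
def g2 : (Scheme.Modules.pushforward gY).obj K ⟶
    (Scheme.Modules.pushforward (fX ≫ gX)).obj ((Scheme.Modules.pullback fY).obj K) :=
  (Scheme.Modules.pushforward gY).map ((Scheme.Modules.pullbackPushforwardAdjunction fY).unit.app K) ≫
    (Scheme.Modules.pushforwardComp fY gY).hom.app _ ≫ (Scheme.Modules.pushforwardCongr w.symm).hom.app _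

theorem g1_app (V : T.Opens) (s : Γ(L, gX ⁻¹ᵁ V)) :
    (g1 σ (gX := gX)).app V s = σ.hom.app (fX ⁻¹ᵁ (gX ⁻¹ᵁ V)) (pl fX L (gX ⁻¹ᵁ V) s) := rfl

theorem g2_app (V : T.Opens) (t : Γ(K, gY ⁻¹ᵁ V)) :
    (g2 w).app V t = res ((Scheme.Modules.pullback fY).obj K) (le_pre fX fY gX gY w V) (pl fY K (gY ⁻¹ᵁ V) t) :=
  rfl

/-- The difference map. -/
def gdiff : (Scheme.Modules.pushforward gX).obj L ⊞ (Scheme.Modules.pushforward gY).obj K ⟶
    (Scheme.Modules.pushforward (fX ≫ gX)).obj ((Scheme.Modules.pullback fY).obj K) :=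
  biprod.fst ≫ g1 σ - biprod.snd ≫ g2 w

/-- The glued module. -/
def glued : T.Modules := kernel (gdiff w σ)

/-- The glued module maps to the first piece. -/
def prX : glued w σ ⟶ (Scheme.Modules.pushforward gX).obj L := kernel.ι (gdiff w σ) ≫ biprod.fst

/-- The glued module maps to the second piece. -/
def prY : glued w σ ⟶ (Scheme.Modules.pushforward gY).obj K := kernel.ι (gdiff w σ) ≫ biprod.snd

/-- The first component of a section. -/
abbrev pX (V : T.Opens) (m : Γ(glued w σ, V)) : Γ(L, gX ⁻¹ᵁ V) := (prX w σ).app V m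

/-- The second component of a section. -/
abbrev pY (V : T.Opens) (m : Γ(glued w σ, V)) : Γ(K, gY ⁻¹ᵁ V) := (prY w σ).app V m

theorem compat (V : T.Opens) (m : Γ(glued w σ, V)) :
    σ.hom.app (fX ⁻¹ᵁ (gX ⁻¹ᵁ V)) (pl fX L (gX ⁻¹ᵁ V) (pX w σ V m)) =
      res ((Scheme.Modules.pullback fY).obj K) (le_pre fX fY gX gY w V) (pl fY K (gY ⁻¹ᵁ V) (pY w σ V m)) := by
  rw [← g1_app, ← g2_app w]
  refine sub_eq_zero.1 ?_
  have h : (gdiff w σ).app V ((kernel.ι (gdiff w σ)).app V m) = 0 :=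
    congrArg (fun ψ : kernel (gdiff w σ) ⟶ _ => ψ.app V m) (kernel.condition (gdiff w σ))
  exact h

theorem biprod_decomp {A B : T.Modules} (V : T.Opens) (z : Γ(A ⊞ B, V)) :
    (biprod.inl : A ⟶ A ⊞ B).app V ((biprod.fst : A ⊞ B ⟶ A).app V z) +
      (biprod.inr : B ⟶ A ⊞ B).app V ((biprod.snd : A ⊞ B ⟶ B).app V z) = z := by
  have h := congr(($(biprod.total (X := A) (Y := B))).app V z)
  exact h

theorem ext_sect {V : T.Opens} {m m' : Γ(glued w σ, V)} (hX : pX w σ V m = pX w σ V m')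
    (hY : pY w σ V m = pY w σ V m') : m = m' := by
  refine QC.app_injective_of_mono (kernel.ι (gdiff w σ)) V ?_
  let A := (Scheme.Modules.pushforward gX).obj L
  let B := (Scheme.Modules.pushforward gY).obj K
  have hX' : (biprod.fst : A ⊞ B ⟶ A).app V ((kernel.ι (gdiff w σ)).app V m) =
      (biprod.fst : A ⊞ B ⟶ A).app V ((kernel.ι (gdiff w σ)).app V m') := hX
  have hY' : (biprod.snd : A ⊞ B ⟶ B).app V ((kernel.ι (gdiff w σ)).app V m) =
      (biprod.snd : A ⊞ B ⟶ B).app V ((kernel.ι (gdiff w σ)).app V m') := hY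
  rw [← biprod_decomp V ((kernel.ι (gdiff w σ)).app V m), ← biprod_decomp V ((kernel.ι (gdiff w σ)).app V m'),
    hX', hY']

theorem exists_glued {V : T.Opens} (s : Γ(L, gX ⁻¹ᵁ V)) (t : Γ(K, gY ⁻¹ᵁ V))
    (h : σ.hom.app (fX ⁻¹ᵁ (gX ⁻¹ᵁ V)) (pl fX L (gX ⁻¹ᵁ V) s) =
      res ((Scheme.Modules.pullback fY).obj K) (le_pre fX fY gX gY w V) (pl fY K (gY ⁻¹ᵁ V) t)) :
    ∃ m : Γ(glued w σ, V), pX w σ V m = s ∧ pY w σ V m = t := by
  let A := (Scheme.Modules.pushforward gX).obj L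
  let B := (Scheme.Modules.pushforward gY).obj K
  let sA : Γ(A, V) := s
  let tB : Γ(B, V) := t
  let z : Γ(A ⊞ B, V) := (biprod.inl : A ⟶ A ⊞ B).app V sA + (biprod.inr : B ⟶ A ⊞ B).app V tB
  have hz1 : (biprod.fst : A ⊞ B ⟶ A).app V z = sA := by
    have h1 := congr(($(biprod.inl_fst (X := A) (Y := B))).app V sA)
    have h2 := congr(($(biprod.inr_fst (X := A) (Y := B))).app V tB)
    refine (map_add _ _ _).trans ?_
    refine (congrArg₂ (· + ·) h1 h2).trans ?_
    exact add_zero _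
  have hz2 : (biprod.snd : A ⊞ B ⟶ B).app V z = tB := by
    have h1 := congr(($(biprod.inl_snd (X := A) (Y := B))).app V sA)
    have h2 := congr(($(biprod.inr_snd (X := A) (Y := B))).app V tB)
    refine (map_add _ _ _).trans ?_
    refine (congrArg₂ (· + ·) h1 h2).trans ?_
    exact zero_add _
  have hzero : (gdiff w σ).app V z = 0 := by
    show (g1 σ).app V ((biprod.fst : A ⊞ B ⟶ A).app V z) - (g2 w).app V ((biprod.snd : A ⊞ B ⟶ B).app V z) = 0
    rw [hz1, hz2, sub_eq_zero]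
    exact h
  obtain ⟨m, hm⟩ := PBundle.exists_kernel_sect (gdiff w σ) z hzero
  exact ⟨m, (congrArg ((biprod.fst : A ⊞ B ⟶ A).app V) hm).trans hz1,
    (congrArg ((biprod.snd : A ⊞ B ⟶ B).app V) hm).trans hz2⟩

/-- The comparison with the first piece. -/
def compX : (Scheme.Modules.pullback gX).obj (glued w σ) ⟶ L :=
  ((Scheme.Modules.pullbackPushforwardAdjunction gX).homEquiv _ _).symm (prX w σ)

/-- The comparison with the second piece. -/
def compY : (Scheme.Modules.pullback gY).obj (glued w σ) ⟶ K :=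
  ((Scheme.Modules.pullbackPushforwardAdjunction gY).homEquiv _ _).symm (prY w σ)

theorem symm_pl {A B : Scheme.{u}} (f : A ⟶ B) {M : B.Modules} {P : A.Modules}
    (α : M ⟶ (Scheme.Modules.pushforward f).obj P) (V : B.Opens) (m : Γ(M, V)) :
    (((Scheme.Modules.pullbackPushforwardAdjunction f).homEquiv _ _).symm α).app (f ⁻¹ᵁ V) (pl f M V m) =
      (show Γ(P, f ⁻¹ᵁ V) from α.app V m) := by
  have h := ((Scheme.Modules.pullbackPushforwardAdjunction f).homEquiv _ _).apply_symm_apply α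
  rw [Adjunction.homEquiv_unit] at h
  exact congr(($h).app V m)

theorem compX_pl (V : T.Opens) (m : Γ(glued w σ, V)) :
    (compX w σ).app (gX ⁻¹ᵁ V) (pl gX _ V m) = pX w σ V m := symm_pl gX _ V m

theorem compY_pl (V : T.Opens) (m : Γ(glued w σ, V)) :
    (compY w σ).app (gY ⁻¹ᵁ V) (pl gY _ V m) = pY w σ V m := symm_pl gY _ V m

/-- A morphism carrying a frame to a frame is bijective below it. -/
theorem bijective_of_frames {A : Scheme.{u}} {M N : A.Modules} (φ : M ⟶ N) {n : ℕ} {U : A.Opens}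
    {e : Fin n → Γ(M, U)} {f : Fin n → Γ(N, U)} (he : IsFrame e) (hf : IsFrame f)
    (h : ∀ l, φ.app U (e l) = f l) {O : A.Opens} (hO : O ≤ U) : Function.Bijective (φ.app O) := by
  refine (Function.Bijective.of_comp_iff (φ.app O)
    (g := fun c : Fin n → Γ(A, O) => ∑ l, c l • res M hO (e l))
    ⟨he.comb_injective hO, he.comb_surjective hO⟩).1 ?_
  have e1 : (φ.app O ∘ fun c : Fin n → Γ(A, O) => ∑ l, c l • res M hO (e l)) =
      fun c => ∑ l, c l • res N hO (f l) := funext fun c => by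
    refine (map_comb φ e hO c).trans ?_
    simp only [h]
  rw [e1]
  exact ⟨hf.comb_injective hO, hf.comb_surjective hO⟩

variable {n : ℕ}

/-- Compatible frames of the pieces glue to a frame. -/
theorem exists_frame (h : Pinch.IsPinch fX fY gX gY) {W : T.Opens} {e : Fin n → Γ(L, gX ⁻¹ᵁ W)}
    {f : Fin n → Γ(K, gY ⁻¹ᵁ W)} (he : IsFrame e) (hf : IsFrame f)
    (hef : ∀ l, σ.hom.app (fX ⁻¹ᵁ (gX ⁻¹ᵁ W)) (pl fX L (gX ⁻¹ᵁ W) (e l)) =
      res ((Scheme.Modules.pullback fY).obj K) (le_pre fX fY gX gY w W) (pl fY K (gY ⁻¹ᵁ W) (f l))) :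
    ∃ m : Fin n → Γ(glued w σ, W), IsFrame m ∧ (∀ l, pX w σ W (m l) = e l) ∧ ∀ l, pY w σ W (m l) = f l := by
  choose m hmX hmY using fun l => exists_glued w σ (e l) (f l) (hef l)
  refine ⟨m, W7Strat.isFrame_of_bijective fun V hV => ?_, hmX, hmY⟩
  have cX : ∀ c : Fin n → Γ(T, V), pX w σ V (∑ l, c l • res (glued w σ) hV (m l)) =
      ∑ l, (gX.app V).hom (c l) • res L (gX.preimage_mono hV) (e l) := fun c => by
    refine (map_comb (prX w σ) m hV c).trans ?_
    exact Finset.sum_congr rfl fun l _ =>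
      congrArg (fun z : Γ(L, gX ⁻¹ᵁ W) => (gX.app V).hom (c l) • res L (gX.preimage_mono hV) z) (hmX l)
  have cY : ∀ c : Fin n → Γ(T, V), pY w σ V (∑ l, c l • res (glued w σ) hV (m l)) =
      ∑ l, (gY.app V).hom (c l) • res K (gY.preimage_mono hV) (f l) := fun c => by
    refine (map_comb (prY w σ) m hV c).trans ?_
    exact Finset.sum_congr rfl fun l _ =>
      congrArg (fun z : Γ(K, gY ⁻¹ᵁ W) => (gY.app V).hom (c l) • res K (gY.preimage_mono hV) z) (hmY l)
  constructor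
  · intro c c' hc
    dsimp only at hc
    have h1 := congrArg (pX w σ V) hc
    have h2 := congrArg (pY w σ V) hc
    rw [cX, cX] at h1
    rw [cY, cY] at h2
    funext l
    exact (Pinch.secAt_of_isPinch h V).1 _ _ (congrFun (he.comb_injective _ h1) l)
      (congrFun (hf.comb_injective _ h2) l)
  · intro z
    obtain ⟨a, ha⟩ := he.comb_surjective (gX.preimage_mono hV) (pX w σ V z)
    obtain ⟨b, hb⟩ := hf.comb_surjective (gY.preimage_mono hV) (pY w σ V z)
    have hc := compat w σ V z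
    rw [← ha, ← hb, pl_comb, pl_comb, map_comb, map_sum] at hc
    have hle : fX ⁻¹ᵁ (gX ⁻¹ᵁ V) ≤ fY ⁻¹ᵁ (gY ⁻¹ᵁ W) :=
      (le_pre fX fY gX gY w V).trans (fY.preimage_mono (gY.preimage_mono hV))
    have hc' : ∑ l, (fX.app (gX ⁻¹ᵁ V)).hom (a l) • res _ hle (pl fY K (gY ⁻¹ᵁ W) (f l)) =
        ∑ l, resO Z (le_pre fX fY gX gY w V) ((fY.app (gY ⁻¹ᵁ V)).hom (b l)) •
          res _ hle (pl fY K (gY ⁻¹ᵁ W) (f l)) := by
      refine Eq.trans ?_ (hc.trans ?_)
      · refine Finset.sum_congr rfl fun l _ => congrArg (_ • ·) ?_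
        rw [hef, res_res]
      · refine Finset.sum_congr rfl fun l _ => ?_
        rw [res_smul, res_res]
    have hco := (hf.pullback fY).comb_injective hle hc'
    choose r hrX hrY using fun l => (Pinch.secAt_of_isPinch h V).2 _ _ (congrFun hco l)
    refine ⟨r, ext_sect w σ ?_ ?_⟩
    · rw [cX, ← ha]; simp only [hrX]
    · rw [cY, ← hb]; simp only [hrY]

/-- The comparisons with the pieces commute with the glueing isomorphism. -/
theorem compat_comp :
    ((Scheme.Modules.pullbackComp fX gX).app (glued w σ) ≪≫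
        (Scheme.Modules.pullbackCongr w).app (glued w σ) ≪≫
          ((Scheme.Modules.pullbackComp fY gY).app (glued w σ)).symm).hom ≫
        (Scheme.Modules.pullback fY).map (compY w σ) =
      (Scheme.Modules.pullback fX).map (compX w σ) ≫ σ.hom := by
  rw [← cancel_epi ((Scheme.Modules.pullbackComp fX gX).inv.app (glued w σ))]
  refine hom_ext (fX ≫ gX) fun V m => ?_
  let O := fX ⁻¹ᵁ (gX ⁻¹ᵁ V)
  have h0 : ((Scheme.Modules.pullbackComp fX gX).inv.app (glued w σ)).app O (pl (fX ≫ gX) _ V m) =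
      pl fX _ (gX ⁻¹ᵁ V) (pl gX _ V m) := by
    rw [show pl (fX ≫ gX) _ V m = ((Scheme.Modules.pullbackComp fX gX).hom.app (glued w σ)).app O
      (pl fX _ (gX ⁻¹ᵁ V) (pl gX _ V m)) from (QC.pullbackComp_hom_pullSect fX gX _ V m).symm]
    exact congr(($((Scheme.Modules.pullbackComp fX gX).hom_inv_id_app (glued w σ))).app O _)
  show ((Scheme.Modules.pullback fY).map (compY w σ)).app O
      (((Scheme.Modules.pullbackComp fY gY).inv.app (glued w σ)).app O
        ((uX w (glued w σ)).app O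
          (((Scheme.Modules.pullbackComp fX gX).inv.app (glued w σ)).app O (pl (fX ≫ gX) _ V m)))) =
    σ.hom.app O (((Scheme.Modules.pullback fX).map (compX w σ)).app O
      (((Scheme.Modules.pullbackComp fX gX).inv.app (glued w σ)).app O (pl (fX ≫ gX) _ V m)))
  rw [h0, uX_pl, show ((Scheme.Modules.pullback fX).map (compX w σ)).app O (pl fX _ (gX ⁻¹ᵁ V) (pl gX _ V m)) =
    pl fX _ (gX ⁻¹ᵁ V) ((compX w σ).app _ (pl gX _ V m)) from QC.app_pullSect fX _ _ _, compX_pl,
    show σ.hom.app O (pl fX L (gX ⁻¹ᵁ V) (pX w σ V m)) = _ from compat w σ V m, ← compY_pl w σ V m,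
    show pl fY K (gY ⁻¹ᵁ V) ((compY w σ).app (gY ⁻¹ᵁ V) (pl gY _ V m)) =
      ((Scheme.Modules.pullback fY).map (compY w σ)).app (fY ⁻¹ᵁ (gY ⁻¹ᵁ V)) (pl fY _ (gY ⁻¹ᵁ V) (pl gY _ V m)) from
        (QC.app_pullSect fY _ _ _).symm]
  conv_rhs => rw [app_res]
  refine congrArg (((Scheme.Modules.pullback fY).map (compY w σ)).app O) ?_
  refine (app_res ((Scheme.Modules.pullbackComp fY gY).inv.app (glued w σ)) _ _).symm.trans ?_
  refine congrArg (res _ (le_pre fX fY gX gY w V)) ?_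
  rw [← uY_pl]
  exact congr(($((Scheme.Modules.pullbackComp fY gY).hom_inv_id_app (glued w σ))).app
    (fY ⁻¹ᵁ (gY ⁻¹ᵁ V)) _)

theorem top_cases (h : Pinch.IsPinch fX fY gX gY) [IsClosedImmersion fX] [Surjective fY] (x : X)
    (hx : gX x ∈ Set.range gY) : x ∈ Set.range fX := by
  obtain ⟨y, hy⟩ := hx
  haveI : Mono ((forget TopCat.{u}).map fX.base) :=
    (mono_iff_injective _).2 fX.isClosedEmbedding.injective
  have hp := (Pinch.top_of_isPinch h).map (forget TopCat.{u})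
  obtain ⟨z, hz, -⟩ := Types.exists_of_isPullback (Adhesive.isPullback_of_isPushout_of_mono_left hp) x y hy.symm
  exact ⟨z, hz⟩

/-- **Glueing along a pinching.** -/
theorem main [IsClosedImmersion fX] [IsClosedImmersion gY] [Surjective fY] [IsFinite gX]
    (h : Pinch.IsPinch fX fY gX gY) {U : T.Opens} (hU : (U : Set T) = (Set.range gY)ᶜ) (hiso : IsIso (gX ∣_ U))
    (hL : FlatMod.IsFinLocFreeOfRank n L) (hK : FlatMod.IsFinLocFreeOfRank n K) :
    ∃ (M : T.Modules) (eX : (Scheme.Modules.pullback gX).obj M ≅ L)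
      (eY : (Scheme.Modules.pullback gY).obj M ≅ K), FlatMod.IsFinLocFreeOfRank n M ∧
      (Scheme.Modules.pullbackComp fX gX).app M ≪≫ (Scheme.Modules.pullbackCongr w).app M ≪≫
        ((Scheme.Modules.pullbackComp fY gY).app M).symm ≪≫ (Scheme.Modules.pullback fY).mapIso eY =
      (Scheme.Modules.pullback fX).mapIso eX ≪≫ σ := by
  have shrink : ∀ (p : T) (O : X.Opens), (∀ x, gX x = p → x ∈ O) →
      ∃ W : T.Opens, p ∈ W ∧ gX ⁻¹ᵁ W ≤ O := fun p O hO => by
    refine ⟨⟨(gX '' (O : Set X)ᶜ)ᶜ, (gX.isClosedMap _ O.2.isClosed_compl).isOpen_compl⟩,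
      fun ⟨x, hx, hxp⟩ => hx (hO x hxp), fun x hx => ?_⟩
    by_contra hn
    exact hx ⟨x, hn, rfl⟩
  have hloc : ∀ p : T, ∃ (W : T.Opens) (e : Fin n → Γ(L, gX ⁻¹ᵁ W)) (f : Fin n → Γ(K, gY ⁻¹ᵁ W)),
      p ∈ W ∧ IsFrame e ∧ IsFrame f ∧ ∀ l, σ.hom.app (fX ⁻¹ᵁ (gX ⁻¹ᵁ W)) (pl fX L (gX ⁻¹ᵁ W) (e l)) =
        res ((Scheme.Modules.pullback fY).obj K) (le_pre fX fY gX gY w W) (pl fY K (gY ⁻¹ᵁ W) (f l)) := by
    intro p
    by_cases hp : p ∈ Set.range gY
    · obtain ⟨y₀, rfl⟩ := hp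
      obtain ⟨Uf, f₀, hyf, hf₀⟩ := exists_frame_rank hK y₀
      obtain ⟨O', hO', hOf⟩ := gY.isClosedEmbedding.isInducing.isOpen_iff.1 Uf.2
      have hyO : gY y₀ ∈ O' := by
        have : y₀ ∈ gY ⁻¹' O' := hOf ▸ hyf
        exact this
      obtain ⟨W₀, hW₀, hpW₀, hW₀O⟩ := exists_isAffineOpen_mem_and_subset (x := gY y₀) (U := ⟨O', hO'⟩) hyO
      have hleUf : gY ⁻¹ᵁ W₀ ≤ Uf := fun y hy => by
        have : y ∈ gY ⁻¹' O' := hW₀O hy
        rwa [hOf] at this
      let V := gX ⁻¹ᵁ W₀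
      let f₁ : Fin n → Γ(K, gY ⁻¹ᵁ W₀) := fun l => res K hleUf (f₀ l)
      let t : Fin n → Γ((Scheme.Modules.pullback fY).obj K, fX ⁻¹ᵁ V) := fun l =>
        res _ (le_pre fX fY gX gY w W₀) (pl fY K (gY ⁻¹ᵁ W₀) (f₁ l))
      have ht : IsFrame t :=
        W7Strat.isFrame_res ((W7Strat.isFrame_res hf₀ hleUf).pullback fY) (le_pre fX fY gX gY w W₀)
      have hqL : Coh.IsQCoh L := Groth.Agent.LocFree.isQCoh_of_isFinLocFree
        (fun x => let ⟨U, hx, e⟩ := hL x; ⟨U, n, hx, e⟩)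
      choose e₀ he₀ using fun l => AmpleHomeo.pullSect_surjective fX hqL (hW₀.preimage gX)
        (σ.inv.app (fX ⁻¹ᵁ V) (t l))
      have hσe : ∀ l, σ.hom.app (fX ⁻¹ᵁ V) (pl fX L V (e₀ l)) = t l := fun l => by
        rw [show pl fX L V (e₀ l) = σ.inv.app (fX ⁻¹ᵁ V) (t l) from he₀ l]
        exact congr(($(σ.inv_hom_id)).app (fX ⁻¹ᵁ V) (t l))
      have hfr : IsFrame fun l => pl fX L V (e₀ l) := by
        have := isFrame_app σ.symm ht
        rwa [show (fun l => pl fX L V (e₀ l)) = fun l => σ.symm.hom.app (fX ⁻¹ᵁ V) (t l) from funext he₀]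
      choose D hDV hD hDe using fun z : {z : Z // fX z ∈ V} => exists_frame_near fX hL e₀ hfr z.1 z.2
      obtain ⟨W₁, hpW₁, hW₁⟩ := shrink (gY y₀) (⨆ z, D z) (fun x hx => by
        obtain ⟨z, rfl⟩ := top_cases h x ⟨y₀, hx.symm⟩
        refine Opens.mem_iSup.2 ⟨⟨z, ?_⟩, hD _⟩
        show gX (fX z) ∈ W₀
        rw [hx]; exact hpW₀)
      let W := W₀ ⊓ W₁
      refine ⟨W, fun l => res L (gX.preimage_mono inf_le_left) (e₀ l),
        fun l => res K (gY.preimage_mono inf_le_left) (f₁ l), ⟨hpW₀, hpW₁⟩, ?_,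
        W7Strat.isFrame_res (W7Strat.isFrame_res hf₀ hleUf) _, fun l => ?_⟩
      · intro x hx
        obtain ⟨z, hz⟩ := Opens.mem_iSup.1 (hW₁ hx.2)
        have e : ∀ l, Groth.Agent.WeakAssLib.mgerm L hx (res L (gX.preimage_mono inf_le_left) (e₀ l)) =
            Groth.Agent.WeakAssLib.mgerm L hz (res L (hDV z) (e₀ l)) := fun l =>
          (Groth.Agent.WeakAssLib.mgerm_res L (gX.preimage_mono (inf_le_left : W ≤ W₀)) hx (e₀ l)).trans
            (Groth.Agent.WeakAssLib.mgerm_res L (hDV z) hz (e₀ l)).symm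
        simp only [e]
        exact hDe z x hz
      · rw [pl_res, pl_res, ← app_res, hσe, res_res, res_res]
    · have hpU : p ∈ U := by
        rw [← SetLike.mem_coe, hU]; exact hp
      obtain ⟨x₀, hx₀⟩ := (gX ∣_ U).surjective ⟨p, hpU⟩
      have hx₀' : gX x₀.1 = p := (morphismRestrict_base_coe gX U x₀).symm.trans (congrArg Subtype.val hx₀)
      obtain ⟨Ug, g, hxg, hg⟩ := exists_frame_rank hL x₀.1
      obtain ⟨W₁, hpW₁, hW₁⟩ := shrink p Ug (fun x hx => by
        have hxU : x ∈ gX ⁻¹ᵁ U := by show gX x ∈ U; rw [hx]; exact hpU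
        have hinj := (gX ∣_ U).homeomorph.injective (a₁ := ⟨x, hxU⟩) (a₂ := x₀) (Subtype.ext
          ((morphismRestrict_base_coe gX U ⟨x, hxU⟩).trans (hx.trans (congrArg Subtype.val hx₀).symm)))
        rw [show x = x₀.1 from congrArg Subtype.val hinj]
        exact hxg)
      let W := W₁ ⊓ U
      have hle : gX ⁻¹ᵁ W ≤ Ug := (gX.preimage_mono inf_le_left).trans hW₁
      have hemp : ∀ y : Y, y ∉ gY ⁻¹ᵁ W := fun y hy => by
        have h2 : gY y ∈ (U : Set T) := hy.2
        rw [hU] at h2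
        exact h2 ⟨y, rfl⟩
      refine ⟨W, fun l => res L hle (g l), fun _ => 0, ⟨hpW₁, hpU⟩, W7Strat.isFrame_res hg hle,
        fun y hy => (hemp y hy).elim, fun l => QC.section_eq_of_locally fun z hz => ?_⟩
      exact (hemp (fY z) (le_pre fX fY gX gY w W hz)).elim
  choose W e f hpW he hf hef using hloc
  choose m hm hmX hmY using fun p => exists_frame w σ h (he p) (hf p) (hef p)
  haveI : IsIso (compX w σ) := AVOmega.isIso_of_locally_bijective _ fun x =>
    ⟨gX ⁻¹ᵁ W (gX x), hpW _, fun O hO => bijective_of_frames _ ((hm (gX x)).pullback gX) (he (gX x))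
      (fun l => (compX_pl w σ _ _).trans (hmX _ l)) hO⟩
  haveI : IsIso (compY w σ) := AVOmega.isIso_of_locally_bijective _ fun y =>
    ⟨gY ⁻¹ᵁ W (gY y), hpW _, fun O hO => bijective_of_frames _ ((hm (gY y)).pullback gY) (hf (gY y))
      (fun l => (compY_pl w σ _ _).trans (hmY _ l)) hO⟩
  refine ⟨glued w σ, asIso (compX w σ), asIso (compY w σ), fun p => ?_, ?_⟩
  · exact ⟨W p, hpW p, W7Strat.nonempty_iso_free (W p).ι (W p).opensRange_ι.le (hm p)⟩
  · refine Iso.ext ?_
    simpa [Category.assoc] using compat_comp w σ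

end Groth.Agent.PinchHom
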